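import Groth.Agent.GammaPull.Main
import Groth.Agent.Dual3Nu.Tri
import Groth.Agent.FMTool.Basic
import Groth.Agent.ProjForm.Main
import Groth.Agent.PerfPush.Main

/-!
# Local cohomology and derived tensor products
-/

set_option autoImplicit false
set_option backward.isDefEq.respectTransparency false
set_option backward.isDefEq.respectTransparency.types false
set_option linter.style.haveILetI false
set_option linter.unusedSectionVars false

universe u

open CategoryTheory Limits Pretriangulated AlgebraicGeometry ZeroObject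

attribute [local instance] HasDerivedCategory.standard

namespace Groth.Agent.GammaTens

open Groth.Agent.DQCoh Groth.Agent.PerfGen Groth.Agent.DCohGammaZ

variable {X Y : Scheme.{u}}

/-- functors respecting triangles send zero to zero -/
theorem isZero_of_triP {F : DCoh.D X ⥤ DCoh.D Y} (hF : Dual3Nu.TriP F) {A : DCoh.D X} (hA : IsZero A) :
    IsZero (F.obj A) := by
  obtain ⟨c, hc⟩ := hF (Triangle.mk (𝟙 A) (0 : A ⟶ 0) (0 : (0 : DCoh.D X) ⟶ A⟦(1 : ℤ)⟧))
    (contractible_distinguished A)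
  have h0 : IsZero (F.obj (0 : DCoh.D X)) :=
    (Triangle.isZero₃_iff_isIso₁ _ hc).2 (show IsIso (F.map (𝟙 A)) from inferInstance)
  exact h0.of_iso (F.mapIso (hA.iso (isZero_zero (DCoh.D X))))

theorem main [IsNoetherian X] (U : X.Opens) [CxOX.HasRgammaZ U.ι] (F : DCoh.D X) (hF : DCoh.IsQCohD F)
    (E : CochainComplex X.Modules ℤ) (hE : DCoh.IsQCohD (DCoh.toD X E)) [DCoh.HasLTensorCx E] :
    (∃ φ : (DCoh.LTensorCx E).obj ((CxOX.RgammaZ U.ι).obj F) ⟶ (CxOX.RgammaZ U.ι).obj ((DCoh.LTensorCx E).obj F),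
        φ ≫ (CxOX.RgammaZToId U.ι).app ((DCoh.LTensorCx E).obj F) =
          (DCoh.LTensorCx E).map ((CxOX.RgammaZToId U.ι).app F)) ∧
    ∀ φ : (DCoh.LTensorCx E).obj ((CxOX.RgammaZ U.ι).obj F) ⟶ (CxOX.RgammaZ U.ι).obj ((DCoh.LTensorCx E).obj F),
        φ ≫ (CxOX.RgammaZToId U.ι).app ((DCoh.LTensorCx E).obj F) =
          (DCoh.LTensorCx E).map ((CxOX.RgammaZToId U.ι).app F) → IsIso φ := by
  haveI := KFlat.hasLpull U.ι
  haveI := DerPush.hasRpush_sch U.ι
  let M : CochainComplex U.toScheme.Modules ℤ :=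
    (DerivedCategory.Q (C := U.toScheme.Modules)).objPreimage ((DCoh.Lpull U.ι).obj (DCoh.toD X E))
  let eM : DCoh.toD U.toScheme M ≅ (DCoh.Lpull U.ι).obj (DCoh.toD X E) := DerivedCategory.Q.objObjPreimageIso _
  haveI := KFlat.hasLTensorCx M
  obtain ⟨G, c, d, hT⟩ := exists_triangle U.ι F
  obtain ⟨d', hT'⟩ := Dual3Nu.triP_LTensorCx E _ hT
  -- support
  obtain ⟨e₁⟩ := PerfPush.nonempty_lpull_RD U.ι ((DCoh.LTensorCx E).obj ((CxOX.RgammaZ U.ι).obj F))
  obtain ⟨e₂⟩ := FMTool.nonempty_lpull_ltensor U.ι E M eM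
  obtain ⟨e₃⟩ := PerfPush.nonempty_lpull_RD U.ι ((CxOX.RgammaZ U.ι).obj F)
  have hA : IsZero ((RD U.ι).obj ((DCoh.LTensorCx E).obj ((CxOX.RgammaZ U.ι).obj F))) :=
    (isZero_of_triP (Dual3Nu.triP_LTensorCx M) (isZero_RD_RgammaZ U.ι F)).of_iso
      (e₁.symm ≪≫ e₂.app _ ≪≫ (DCoh.LTensorCx M).mapIso e₃)
  -- the third vertex
  have hG : DCoh.IsQCohD G := by
    haveI : IsIso ((RD U.ι).map c) :=
      (Triangle.isZero₁_iff_isIso₂ _ ((RD U.ι).map_distinguished _ hT)).1 (isZero_RD_RgammaZ U.ι F)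
    exact isQCohD_of_iso (asIso ((RD U.ι).map c) ≪≫ asIso ((adjR U.ι).counit.app G)) (isQCohD_RD U.ι hF)
  obtain ⟨e⟩ := ProjForm.nonempty_projFormula U.ι G hG E hE M ⟨eM⟩
  refine ⟨exists_lift U.ι hA _, fun φ hφ => isIso_of_triangle U.ι hA hT' (fun B hB g => ?_) φ hφ⟩
  rw [← cancel_mono e.hom, zero_comp]
  exact hom_eq_zero U.ι hB _

end Groth.Agent.GammaTens
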